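import Groth.Agent.Sga3.SpecFibreSub.Closure
import Groth.Agent.Ega4Algebra1.RegularLocal

/-!
Closed subgroups of the generic fibre over a regular local ring specialize to the closed fibre.
-/

set_option autoImplicit false

universe u

open CategoryTheory CategoryTheory.Limits AlgebraicGeometry IsLocalRing

noncomputable section

namespace Groth.Sga3.SpecFibreSub

open Groth.Sga3.SubSpec

variable {S : Scheme.{u}} {d : ℕ} {Θ : Set CTree} {nrm : Prop}

theorem specMap_comp_assoc {A B C : Type u} [CommRing A] [CommRing B] [CommRing C] (f : A →+* B) (g : B →+* C)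
    (t : Spec (CommRingCat.of A) ⟶ S) :
    Spec.map (CommRingCat.ofHom g) ≫ Spec.map (CommRingCat.ofHom f) ≫ t =
      Spec.map (CommRingCat.ofHom (g.comp f)) ≫ t := by
  rw [← Category.assoc, ← Spec.map_comp]
  rfl

theorem hasSub_step (G : Over S) [GrpObj G] [LocallyOfFiniteType G.hom] [QuasiSeparated G.hom]
    [QuasiCompact G.hom] (hsep : Θ.Nonempty → IsSeparated G.hom) (hflat : nrm → Flat G.hom)
    {A V F F₁ : Type u} [CommRing A] [Field F] [Algebra A F] [IsFractionRing A F] [CommRing V] [IsDomain V]
    [IsDiscreteValuationRing V] [Field F₁] (ι : A →+* V) (hι : Function.Injective ι) (π₁ : V →+* F₁)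
    (t : Spec (CommRingCat.of A) ⟶ S) (h : HasSub G (Spec.map (CommRingCat.ofHom (algebraMap A F)) ≫ t) d Θ nrm) :
    HasSub G (Spec.map (CommRingCat.ofHom (π₁.comp ι)) ≫ t) d Θ nrm := by
  have hinjK : Function.Injective ((algebraMap V (FractionRing V)).comp ι) :=
    (IsFractionRing.injective V (FractionRing V)).comp hι
  rw [← specMap_comp_assoc]
  refine hasSub_dvr G hsep hflat (Spec.map (CommRingCat.ofHom ι) ≫ t) (Spec.map (CommRingCat.ofHom π₁))
    (hasSub_field (Spec.map (CommRingCat.ofHom (IsFractionRing.lift (K := F) hinjK))) ?_ h)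
  have e : (IsFractionRing.lift (K := F) hinjK).comp (algebraMap A F) = (algebraMap V (FractionRing V)).comp ι :=
    RingHom.ext fun a => IsFractionRing.lift_algebraMap (A := A) (K := F) hinjK a
  show Spec.map _ ≫ Spec.map _ ≫ t =
    Spec.map (CommRingCat.ofHom (algebraMap V (FractionRing V))) ≫ Spec.map (CommRingCat.ofHom ι) ≫ t
  rw [specMap_comp_assoc (algebraMap A F) (IsFractionRing.lift (K := F) hinjK) t, e]
  exact (specMap_comp_assoc ι (algebraMap V (FractionRing V)) t).symm

theorem hasSub_regular (G : Over S) [GrpObj G] [LocallyOfFiniteType G.hom] [QuasiSeparated G.hom]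
    [QuasiCompact G.hom] (hsep : Θ.Nonempty → IsSeparated G.hom) (hflat : nrm → Flat G.hom) :
    ∀ (n : ℕ) (A : Type u) [CommRing A] [IsDomain A] [IsRegularLocalRing A],
      (maximalIdeal A).spanFinrank = n → ∀ (t : Spec (CommRingCat.of A) ⟶ S) (F : Type u) [Field F] [Algebra A F]
        [IsFractionRing A F] (F' : Type u) [Field F'] (π : A →+* F'), Function.Surjective π →
        HasSub G (Spec.map (CommRingCat.ofHom (algebraMap A F)) ≫ t) d Θ nrm →
        HasSub G (Spec.map (CommRingCat.ofHom π) ≫ t) d Θ nrm := by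
  intro n
  induction n with
  | zero =>
    intro A _ _ _ hn t F _ _ _ F' _ π hπ h
    have hm : maximalIdeal A = ⊥ := (Submodule.spanFinrank_eq_zero_iff_eq_bot (IsNoetherian.noetherian _)).mp hn
    have hinj : Function.Injective π := (RingHom.injective_iff_ker_eq_bot π).2
      (le_bot_iff.1 (hm ▸ IsLocalRing.le_maximalIdeal (RingHom.ker_ne_top π)))
    refine hasSub_field (Spec.map (CommRingCat.ofHom (IsFractionRing.lift (K := F) hinj))) ?_ h
    rw [← Category.assoc, ← Spec.map_comp]
    congr 2
    ext a
    exact IsFractionRing.lift_algebraMap hinj a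
  | succ n ih =>
    intro A _ _ _ hn t F _ _ _ F' _ π hπ h
    have hbot : maximalIdeal A ≠ ⊥ := fun h => by rw [h, Submodule.spanFinrank_bot] at hn; omega
    obtain ⟨x, hx, hx2⟩ := SetLike.not_le_iff_exists.1 (Groth.Ega4Algebra1.maximalIdeal_not_le_sq hbot)
    obtain ⟨hreg, -⟩ := Groth.Ega4Algebra1.isRegularLocalRing_quotient_span_singleton hx hx2
    let A' := A ⧸ Ideal.span {x}
    haveI : IsRegularLocalRing A' := hreg
    haveI : IsDomain A' := Groth.Ega4Algebra1.isDomain_of_isRegularLocalRing A'
    have h1 : (maximalIdeal A').spanFinrank < _ := Groth.Ega4Algebra1.spanFinrank_maximalIdeal_quotient_lt hx hx2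
    have h2 : _ ≤ (maximalIdeal A').spanFinrank + 1 := Groth.Ega4Algebra1.spanFinrank_maximalIdeal_le_quotient_add_one (R := A) hx
    haveI hP : (Ideal.span {x}).IsPrime := (Ideal.Quotient.isDomain_iff_prime _).mp ‹IsDomain A'›
    have hx0 : x ≠ 0 := fun h0 => hx2 (h0 ▸ zero_mem _)
    let P := Ideal.span {x}
    let V := Localization.AtPrime P
    haveI : IsDomain V := IsLocalization.isDomain_localization P.primeCompl_le_nonZeroDivisors
    haveI : IsNoetherianRing V := IsLocalization.isNoetherianRing P.primeCompl V inferInstance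
    have hmV : maximalIdeal V = Ideal.span {algebraMap A V x} := by
      rw [← Localization.AtPrime.map_eq_maximalIdeal, Ideal.map_span, Set.image_singleton]
    have hnf : ¬ IsField V := by
      rw [IsLocalRing.isField_iff_maximalIdeal_eq, hmV, Ideal.span_singleton_eq_bot,
        map_eq_zero_iff _ (IsLocalization.injective V P.primeCompl_le_nonZeroDivisors)]
      exact hx0
    have hprin : (maximalIdeal V).IsPrincipal := ⟨⟨_, hmV⟩⟩
    haveI : IsDiscreteValuationRing V := ((IsDiscreteValuationRing.TFAE V hnf).out 4 0).mp hprin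
    let F₁ := FractionRing A'
    let f₁ : A →+* F₁ := (algebraMap A' F₁).comp (Ideal.Quotient.mk P)
    let π₁ : V →+* F₁ := IsLocalization.lift (M := P.primeCompl) (g := f₁) fun y => isUnit_iff_ne_zero.2 fun h0 =>
      y.2 (Ideal.Quotient.eq_zero_iff_mem.1 ((map_eq_zero_iff _ (IsFractionRing.injective A' F₁)).1 h0))
    have heq : π₁.comp (algebraMap A V) = f₁ := IsLocalization.lift_comp _
    have h4 := hasSub_step G hsep hflat (algebraMap A V)
      (IsLocalization.injective V P.primeCompl_le_nonZeroDivisors) π₁ t h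
    rw [heq] at h4
    have hker : ∀ a ∈ P, π a = 0 := fun a ha => by
      obtain ⟨b, rfl⟩ := Ideal.mem_span_singleton.1 ha
      haveI : (RingHom.ker π).IsMaximal := RingHom.ker_isMaximal_of_surjective π hπ
      have hk : x ∈ RingHom.ker π := (IsLocalRing.eq_maximalIdeal ‹(RingHom.ker π).IsMaximal›).symm ▸ hx
      rw [map_mul, RingHom.mem_ker.1 hk, zero_mul]
    let π' : A' →+* F' := Ideal.Quotient.lift P π hker
    have h5 := ih A' (by omega) (Spec.map (CommRingCat.ofHom (Ideal.Quotient.mk P)) ≫ t) F₁ F' π'
      (fun y => (hπ y).elim fun a ha => ⟨Ideal.Quotient.mk P a, ha⟩) (by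
        rw [specMap_comp_assoc]
        exact h4)
    rw [specMap_comp_assoc] at h5
    exact h5

/-- The statement for the two closed fibres of a group over a regular local ring. -/
theorem hasSub_regular_bc {A : Type u} [CommRing A] [IsDomain A] [IsRegularLocalRing A]
    {K : Type u} [Field K] [Algebra A K] [IsFractionRing A K] (G : Over (Spec (CommRingCat.of A))) [GrpObj G]
    [LocallyOfFiniteType G.hom] [QuasiSeparated G.hom] [QuasiCompact G.hom]
    (hsep : Θ.Nonempty → IsSeparated G.hom) (hflat : nrm → Flat G.hom)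
    (h : HasSub G (Spec.map (CommRingCat.ofHom (algebraMap A K))) d Θ nrm) :
    HasSub G (Spec.map (CommRingCat.ofHom (algebraMap A (IsLocalRing.ResidueField A)))) d Θ nrm := by
  have h' := hasSub_regular G hsep hflat _ A rfl (𝟙 _) K (IsLocalRing.ResidueField A)
    (algebraMap A (IsLocalRing.ResidueField A)) IsLocalRing.residue_surjective (by rwa [Category.comp_id])
  rwa [Category.comp_id] at h'

end Groth.Sga3.SpecFibreSub
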