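import Groth.Agent.S19964
import Groth.Agent.Sga3.SubSpec.Geom
import Groth.Agent.NeronArea.GenericDense
import Groth.Agent.FibreDim.GroupScheme
import Groth.Agent.AlgGrp1.Sub
import Mathlib.RingTheory.DiscreteValuationRing.TFAE

/-!
Closed subgroups of the generic fibre over a discrete valuation ring specialize to closed subgroups of the same
dimension, keeping normality and commutator identities.
-/

set_option autoImplicit false
set_option backward.isDefEq.respectTransparency false

universe u

open CategoryTheory CategoryTheory.Limits MonoidalCategory CartesianMonoidalCategory MonObj GrpObj AlgebraicGeometry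

noncomputable section

namespace Groth.Sga3.SpecFibreSub

open Groth.Sga3.CommSpread Groth.Sga3.SubSpec

theorem dim_bc {S : Scheme.{u}} (X : Over S) [LocallyOfFiniteType X.hom] {F : Type u} [Field F]
    (g : Spec (CommRingCat.of F) ⟶ S) :
    topologicalKrullDim ↥(Red.bc g X).left =
      topologicalKrullDim ↥(X.hom.base ⁻¹' {g.base (IsLocalRing.closedPoint F)}) := by
  let y : Spec (CommRingCat.of F) := IsLocalRing.closedPoint F
  let f' := pullback.snd X.hom g
  have h := Groth.FibreDim.dim_fiber_baseChange X.hom g f' (pullback.fst X.hom g)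
    (IsPullback.of_hasPullback _ _) y
  rw [← Groth.Variety2.Dim.dim_preimage_singleton, ← Groth.Variety2.Dim.dim_preimage_singleton] at h
  rw [← h, show f'.base ⁻¹' {y} = Set.univ from Set.eq_univ_of_forall fun x => Subsingleton.elim _ _]
  exact ((Homeomorph.Set.univ _).isHomeomorph.topologicalKrullDim_eq _).symm

theorem dim_bc_field {F F' : Type u} [Field F] [Field F'] (X : Over (Spec (CommRingCat.of F)))
    [LocallyOfFiniteType X.hom] (e : Spec (CommRingCat.of F') ⟶ Spec (CommRingCat.of F)) :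
    topologicalKrullDim ↥(Red.bc e X).left = topologicalKrullDim ↥X.left := by
  rw [dim_bc, show X.hom.base ⁻¹' {e.base (IsLocalRing.closedPoint F')} = Set.univ from
    Set.eq_univ_of_forall fun x => Subsingleton.elim (α := PrimeSpectrum F) _ _]
  exact (Homeomorph.Set.univ _).isHomeomorph.topologicalKrullDim_eq _

/-- Identities are preserved by base change. -/
theorem cMap_bc {B B' : Scheme.{u}} (t : B' ⟶ B) (H : Over B) [GrpObj H] (τ : CTree)
    (h : cMap (𝟙 H) τ = 1) : cMap (𝟙 (Red.bc t H)) τ = 1 := by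
  obtain ⟨z, hz⟩ := cMap_lift t (𝟙 (Red.bc t H)) (𝟙 H)
    (fun W y => ⟨(adj t).symm y, by rw [Category.comp_id, Equiv.apply_symm_apply, Category.comp_id]⟩)
    τ (cP (Red.bc t H) τ) (𝟙 _)
  rw [h, MonObj.comp_one, ← adjGrp_apply, map_one, Category.comp_id, Category.id_comp] at hz
  exact hz.symm

/-- Identities of the generic fibre hold over the whole base. -/
theorem cMap_of_generic {B B' : Scheme.{u}} (t : B' ⟶ B) [IsSchemeTheoreticallyDominant t] [QuasiCompact t]
    (H : Over B) [GrpObj H] [Flat H.hom] [IsSeparated H.hom] (N : Over B') [GrpObj N] (e : Red.bc t H ≅ N)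
    [IsMonHom e.hom] (τ : CTree) (h : cMap (𝟙 N) τ = 1) : cMap (𝟙 H) τ = 1 := by
  haveI : Flat (cP H τ).hom := prop_cP (X := H) @Flat ‹Flat H.hom› τ
  obtain ⟨w, hw⟩ := cMap_factor t e.inv (𝟙 H)
    (fun W z => ⟨adj t z ≫ e.hom, by rw [Category.assoc, Iso.hom_inv_id, Category.comp_id, Category.comp_id]⟩)
    τ _ ((adj t).symm (𝟙 _))
  rw [h, MonObj.comp_one, MonObj.one_comp, adj_comp, Equiv.apply_symm_apply, Category.id_comp] at hw
  refine Groth.NeronArea.map_injective_of_flat t (cP H τ) H ?_
  show (Over.pullback t).map (cMap (𝟙 H) τ) = (Over.pullback t).map 1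
  rw [← hw, Functor.map_one]

variable {S : Scheme.{u}}

/-- Existence of a closed subgroup of a fibre with prescribed dimension, identities, and normality. -/
def HasSub (G : Over S) [GrpObj G] {F : Type u} [Field F] (g : Spec (CommRingCat.of F) ⟶ S) (d : ℕ) (Θ : Set CTree)
    (nrm : Prop) : Prop :=
  ∃ (H : Over (Spec (CommRingCat.of F))) (_ : GrpObj H) (i : H ⟶ Red.bc g G),
    IsMonHom i ∧ IsClosedImmersion i.left ∧ topologicalKrullDim ↥H.left = (d : WithBot ℕ∞) ∧
      (∀ τ ∈ Θ, cMap (𝟙 H) τ = 1) ∧ (nrm → AlgGrp.IsNormalHom i)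

variable {d : ℕ} {Θ : Set CTree} {nrm : Prop}

theorem hasSub_of_iso {F : Type u} [Field F] {S' : Scheme.{u}} {G : Over S} [GrpObj G] {G' : Over S'} [GrpObj G']
    {g : Spec (CommRingCat.of F) ⟶ S} {g' : Spec (CommRingCat.of F) ⟶ S'} (φ : Red.bc g G ≅ Red.bc g' G')
    [IsMonHom φ.hom] (h : HasSub G g d Θ nrm) : HasSub G' g' d Θ nrm := by
  obtain ⟨H, _, i, _, _, hd, hΘ, hn⟩ := h
  haveI : IsIso φ.hom.left := inferInstanceAs (IsIso ((Over.forget _).map φ.hom))
  refine ⟨H, inferInstance, i ≫ φ.hom, inferInstance, inferInstanceAs (IsClosedImmersion (i.left ≫ φ.hom.left)),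
    hd, hΘ, fun hnrm T g₁ n => ?_⟩
  obtain ⟨n', hn'⟩ := hn hnrm T (g₁ ≫ φ.inv) n
  refine ⟨n', ?_⟩
  rw [← Category.assoc n', ← hn', MonObj.mul_comp, MonObj.mul_comp, GrpObj.inv_comp, Category.assoc,
    Iso.inv_hom_id, Category.comp_id, Category.assoc]

/-- Changing the field. -/
theorem hasSub_field {F F' : Type u} [Field F] [Field F'] {G : Over S} [GrpObj G] [LocallyOfFiniteType G.hom]
    {g : Spec (CommRingCat.of F) ⟶ S} {g' : Spec (CommRingCat.of F') ⟶ S}
    (e : Spec (CommRingCat.of F') ⟶ Spec (CommRingCat.of F)) (he : e ≫ g = g')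
    (h : HasSub G g d Θ nrm) : HasSub G g' d Θ nrm := by
  obtain ⟨H, _, i, _, _, hd, hΘ, hn⟩ := h
  obtain ⟨φ, hφ, hφ'⟩ := exists_bc_iso e g he G
  haveI : LocallyOfFiniteType (Red.bc g G).hom := inferInstanceAs (LocallyOfFiniteType (pullback.snd G.hom g))
  haveI : LocallyOfFiniteType H.hom := by rw [← Over.w i]; infer_instance
  haveI : IsClosedImmersion ((Over.pullback e).map i).left :=
    MorphismProperty.of_isPullback (Groth.GrpschAbsch.FibreFlat.isPullback_map e i) ‹IsClosedImmersion i.left›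
  haveI : IsMonHom φ.symm.hom := hφ'
  refine hasSub_of_iso (G := Red.bc g G) (g := e) φ.symm
    ⟨Red.bc e H, inferInstance, (Over.pullback e).map i, inferInstance, inferInstance,
      (dim_bc_field H e).trans hd, fun τ hτ => cMap_bc e H τ (hΘ τ hτ), fun h => isNormalHom_bc e i (hn h)⟩

theorem hasSub_push {S' : Scheme.{u}} {F : Type u} [Field F] {G : Over S} [GrpObj G] (t : S' ⟶ S)
    (e : Spec (CommRingCat.of F) ⟶ S') {g : Spec (CommRingCat.of F) ⟶ S} (he : e ≫ t = g) :
    HasSub (Red.bc t G) e d Θ nrm ↔ HasSub G g d Θ nrm := by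
  obtain ⟨φ, hφ, hφ'⟩ := exists_bc_iso e t he G
  haveI : IsMonHom φ.symm.hom := hφ'
  exact ⟨fun h => hasSub_of_iso φ.symm h, fun h => hasSub_of_iso φ h⟩

/-- The step over a discrete valuation ring. -/
theorem hasSub_dvr (G : Over S) [GrpObj G] [LocallyOfFiniteType G.hom] [QuasiSeparated G.hom]
    [QuasiCompact G.hom] (hsep : Θ.Nonempty → IsSeparated G.hom) (hflat : nrm → Flat G.hom)
    {V : Type u} [CommRing V] [IsDomain V] [IsDiscreteValuationRing V]
    (t : Spec (CommRingCat.of V) ⟶ S) {F' : Type u} [Field F'] (π : Spec (CommRingCat.of F') ⟶ Spec (CommRingCat.of V))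
    (h : HasSub G (Neron.genPt V ≫ t) d Θ nrm) : HasSub G (π ≫ t) d Θ nrm := by
  rw [← hasSub_push t _ rfl] at h ⊢
  obtain ⟨N, _, i, _, _, hd, hΘ, hn⟩ := h
  let GV := Red.bc t G
  haveI : LocallyOfFiniteType GV.hom := inferInstanceAs (LocallyOfFiniteType (pullback.snd G.hom t))
  haveI : QuasiSeparated GV.hom := inferInstanceAs (QuasiSeparated (pullback.snd G.hom t))
  obtain ⟨H, _, j, ψ, _, _, _, hpb, hψ, -⟩ := Groth.Agent.S19964.result V GV N i
  haveI : LocallyOfFiniteType H.hom := by rw [← Over.w j]; infer_instance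
  haveI : LocallyOfFinitePresentation H.hom := inferInstance
  let e : Red.bc (Neron.genPt V) H ≅ N := Over.isoMk hpb.isoPullback.symm hpb.isoPullback_inv_snd
  have he : e.hom ≫ i = (Over.pullback (Neron.genPt V)).map j := by
    apply Over.OverMorphism.ext
    apply pullback.hom_ext
    · rw [Over.comp_left, Category.assoc, ← hψ, ← Category.assoc]
      show (hpb.isoPullback.inv ≫ ψ) ≫ j.left = _
      rw [hpb.isoPullback_inv_fst]
      exact (Groth.GrpschAbsch.FibreFlat.isPullback_map (Neron.genPt V) j).w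
    · exact (Over.w (e.hom ≫ i)).trans (Over.w ((Over.pullback (Neron.genPt V)).map j)).symm
  haveI : Mono i := Over.mono_of_mono_left i
  haveI : IsMonHom e.hom := Groth.AlgGrp1.isMonHom_of_points _ fun T a b => by
    rw [← cancel_mono i, Category.assoc, he, MonObj.mul_comp, MonObj.mul_comp, Category.assoc, Category.assoc, he]
  haveI : IsClosedImmersion ((Over.pullback π).map j).left :=
    MorphismProperty.of_isPullback (Groth.GrpschAbsch.FibreFlat.isPullback_map π j) ‹IsClosedImmersion j.left›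
  refine ⟨Red.bc π H, inferInstance, (Over.pullback π).map j, inferInstance, inferInstance, ?_, fun τ hτ => ?_,
    fun hnrm => isNormalHom_bc π j ?_⟩
  · have hde : topologicalKrullDim ↥(Red.bc (Neron.genPt V) H).left = topologicalKrullDim ↥N.left :=
      (Scheme.homeoOfIso hpb.isoPullback.symm).isHomeomorph.topologicalKrullDim_eq _
    rw [← hd, ← hde, dim_bc, dim_bc]
    haveI : IrreducibleSpace ↥(Spec (CommRingCat.of V)) := inferInstance
    exact (Groth.FibreDim.isLocallyConstant_dim H).apply_eq_of_preconnectedSpace _ _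
  · haveI : IsSeparated G.hom := hsep ⟨τ, hτ⟩
    haveI : IsSeparated GV.hom := inferInstanceAs (IsSeparated (pullback.snd G.hom t))
    haveI : IsSeparated H.hom := by rw [← Over.w j]; infer_instance
    exact cMap_bc π H τ (cMap_of_generic (Neron.genPt V) H N e τ (hΘ τ hτ))
  · haveI : Flat G.hom := hflat hnrm
    haveI : Flat GV.hom := inferInstanceAs (Flat (pullback.snd G.hom t))
    let W := GV ⊗ H
    haveI : Flat W.hom := inferInstanceAs (Flat (pullback.fst GV.hom H.hom ≫ GV.hom))
    let a : W ⟶ GV := fst GV H * (snd GV H ≫ j) * (fst GV H)⁻¹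
    obtain ⟨n', hn'⟩ := hn hnrm _ ((Over.pullback (Neron.genPt V)).map (fst GV H))
      ((Over.pullback (Neron.genPt V)).map (snd GV H) ≫ e.hom)
    have ha : (n' ≫ e.inv) ≫ (Over.pullback (Neron.genPt V)).map j = (Over.pullback (Neron.genPt V)).map a := by
      rw [← he, Category.assoc, Iso.inv_hom_id_assoc, ← hn', Category.assoc, he]
      simp only [a, Functor.map_mul, Functor.map_inv', Functor.map_comp]
    obtain ⟨b, hb⟩ := Groth.NeronArea.exists_lift_of_dominant j.left a.left (pullback.fst W.hom (Neron.genPt V))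
      ((n' ≫ e.inv).left ≫ pullback.fst H.hom (Neron.genPt V)) (by
        rw [Category.assoc, (Groth.GrpschAbsch.FibreFlat.isPullback_map (Neron.genPt V) j).w, ← Category.assoc,
          ← Over.comp_left, ha]
        exact (Groth.GrpschAbsch.FibreFlat.isPullback_map (Neron.genPt V) a).w.symm)
    let b' : W ⟶ H := Over.homMk b (by rw [← Over.w j, ← Category.assoc, hb]; exact Over.w a)
    have hb' : b' ≫ j = a := Over.OverMorphism.ext hb
    intro T g n
    refine ⟨lift g n ≫ b', ?_⟩
    rw [Category.assoc, hb']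
    simp only [a, MonObj.comp_mul, GrpObj.comp_inv, lift_fst, lift_snd_assoc]

end Groth.Sga3.SpecFibreSub
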